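import Groth.Agent.Sga2lef.H85.ConnDimTop
import Groth.Agent.VarietyB.DimTop
import Mathlib.Topology.Connected.Basic
import Mathlib.Topology.KrullDimension

/-!
# Connectedness in dimension `≥ k`: transfer and chains

* `of_surjective`: image under a continuous surjection for which the preimages of
  closed sets of dimension `< k` have dimension `< k`.
* `connectedInDim_of_chain`: a union of closed subspaces connected in dimension `≥ k` with
  intersections of dimension `≥ k` linking all of them.
* `reflTransGen_irreducibleComponents`: conversely in a Noetherian space connected in dimension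
  `≥ k`, any two irreducible components are linked by a chain of irreducible components with
  successive intersections of dimension `≥ k`.
-/

set_option autoImplicit false
universe u v

open TopologicalSpace Topology

namespace Groth.Agent.Sga2lef.H85.ConnDimChain

theorem dim_mono {F : Type u} [TopologicalSpace F] {S T : Set F} (h : S ⊆ T) :
    topologicalKrullDim S ≤ topologicalKrullDim T :=
  IsInducing.topologicalKrullDim_le (f := Set.inclusion h) (IsEmbedding.inclusion h).isInducing

/-- Transfer along continuous surjections. -/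
theorem of_surjective {F' F : Type u} [TopologicalSpace F'] [TopologicalSpace F]
    (g : F' → F) (hg : Continuous g) (hs : Function.Surjective g) (k : ℕ)
    (hdim : ∀ Z : Set F, IsClosed Z → topologicalKrullDim Z < (k : WithBot ℕ∞) →
      topologicalKrullDim (g ⁻¹' Z) < (k : WithBot ℕ∞))
    (h : LefX.ConnectedInDim F' k) : LefX.ConnectedInDim F k := by
  intro Z hZ hd
  have h1 := (h (g ⁻¹' Z) (hZ.preimage hg) (hdim Z hZ hd)).image g hg.continuousOn
  rwa [← Set.preimage_compl, Set.image_preimage_eq _ hs] at h1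

/-- A homeomorphism preserves connectedness in dimension. -/
theorem of_homeomorph {F' F : Type u} [TopologicalSpace F'] [TopologicalSpace F]
    (g : F' ≃ₜ F) (k : ℕ) (h : LefX.ConnectedInDim F' k) : LefX.ConnectedInDim F k :=
  of_surjective g g.continuous g.surjective k (fun _ _ hd => lt_of_le_of_lt
    (VarietyB.DimTop.topologicalKrullDim_le_of_isEmbedding g.isInducing _ _ fun _ h => h) hd) h

theorem iSup_lt_natCast {ι : Type*} (g : ι → WithBot ℕ∞) (n : ℕ) (h : ∀ i, g i < n) :
    ⨆ i, g i < n := by
  cases n with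
  | zero =>
    have h0 : ∀ i, g i ≤ ⊥ := fun i => by
      by_contra hne
      have h1 := h i
      rw [not_le] at hne
      obtain ⟨a, ha⟩ := WithBot.ne_bot_iff_exists.1 hne.ne'
      rw [← ha, Nat.cast_zero] at h1
      exact absurd h1 (not_lt.2 (by exact_mod_cast (zero_le : (0 : ℕ∞) ≤ a)))
    exact lt_of_le_of_lt (iSup_le h0) (WithBot.bot_lt_coe _)
  | succ n =>
    refine lt_of_le_of_lt (iSup_le fun i => ?_ : _ ≤ ((n : ℕ) : WithBot ℕ∞)) ?_
    · by_cases hb : g i = ⊥
      · rw [hb]; exact bot_le
      · obtain ⟨a, ha⟩ := WithBot.ne_bot_iff_exists.1 hb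
        have h1 := h i
        rw [← ha] at h1 ⊢
        have h2 : a < ((n + 1 : ℕ) : ℕ∞) := by exact_mod_cast h1
        have h3 : a ≤ (n : ℕ∞) := by
          rw [Nat.cast_add, Nat.cast_one] at h2
          exact Order.le_of_lt_add_one h2
        exact_mod_cast h3
    · exact_mod_cast Nat.lt_succ_self n

/-- A subset covered by finitely many closed sets of dimension `< k` has dimension `< k`. -/
theorem dim_lt_of_subset_sUnion {F : Type u} [TopologicalSpace F] {Z : Set F} (S : Set (Set F))
    (hS : S.Finite) (hc : ∀ s ∈ S, IsClosed s) (hZ : Z ⊆ ⋃₀ S) (k : ℕ)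
    (hd : ∀ s ∈ S, topologicalKrullDim s < (k : WithBot ℕ∞)) :
    topologicalKrullDim Z < (k : WithBot ℕ∞) := by
  have key : ∀ T ∈ irreducibleComponents Z, topologicalKrullDim T < (k : WithBot ℕ∞) := by
    intro T hT
    have h1 : IsIrreducible (Subtype.val '' T : Set F) :=
      hT.1.image _ continuous_subtype_val.continuousOn
    obtain ⟨s, hs, hTs⟩ := isIrreducible_iff_sUnion_isClosed.1 h1 hS.toFinset
      (fun s hs => hc s (hS.mem_toFinset.1 hs)) (by
        rintro _ ⟨x, -, rfl⟩
        rw [hS.coe_toFinset]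
        exact hZ x.2)
    refine lt_of_le_of_lt ?_ (hd s (hS.mem_toFinset.1 hs))
    exact VarietyB.DimTop.topologicalKrullDim_le_of_isEmbedding IsInducing.subtypeVal _ _
      fun y hy => hTs ⟨y, hy, rfl⟩
  rw [VarietyB.DimTop.topologicalKrullDim_eq_iSup_irreducibleComponents]
  exact iSup_lt_natCast _ k fun Z' => key Z'.1 Z'.2

/-- A union of subspaces each connected in dimension `≥ k`, any two of which are linked by a chain
with successive intersections of dimension `≥ k`, is connected in dimension `≥ k`. -/
theorem connectedInDim_of_chain {F : Type u} [TopologicalSpace F] {ι : Type v} [Nonempty ι]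
    (V : ι → Set F) (k : ℕ) (hcov : (⋃ i, V i) = Set.univ)
    (hV : ∀ i, LefX.ConnectedInDim (V i) k)
    (hchain : ∀ i j, Relation.ReflTransGen
      (fun i j => (k : WithBot ℕ∞) ≤ topologicalKrullDim (V i ∩ V j : Set F)) i j) :
    LefX.ConnectedInDim F k := by
  intro Z hZ hd
  have hU : Zᶜ = ⋃ i, (V i \ Z) := by
    rw [← Set.iUnion_sdiff, hcov, Set.compl_eq_univ_sdiff]
  rw [hU]
  refine IsConnected.iUnion_of_reflTransGen (fun i => ?_) (fun i j => ?_)
  · have h1 := hV i (Subtype.val ⁻¹' Z) (hZ.preimage continuous_subtype_val) (lt_of_le_of_lt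
      (VarietyB.DimTop.topologicalKrullDim_le_of_isEmbedding IsInducing.subtypeVal _ _
        fun _ h => h) hd)
    have h2 := h1.image Subtype.val continuous_subtype_val.continuousOn
    have h3 : (Subtype.val '' (Subtype.val ⁻¹' Z : Set (V i))ᶜ : Set F) = V i \ Z := by
      rw [← Set.preimage_compl, Subtype.image_preimage_coe]
      rfl
    rwa [h3] at h2
  · refine Relation.ReflTransGen.mono (fun a b hab => ?_) i j (hchain i j)
    by_contra hne
    rw [Set.not_nonempty_iff_eq_empty] at hne
    have hsub : V a ∩ V b ⊆ Z := by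
      intro x hx
      by_contra hxZ
      have : x ∈ (V a \ Z) ∩ (V b \ Z) := ⟨⟨hx.1, hxZ⟩, ⟨hx.2, hxZ⟩⟩
      rw [hne] at this
      exact this
    exact absurd (hab.trans (dim_mono hsub)) (not_le.2 hd)

/-- In a Noetherian space connected in dimension `≥ k`, any two irreducible components are linked
by a chain of irreducible components with successive intersections of dimension `≥ k`. -/
theorem reflTransGen_irreducibleComponents {F : Type u} [TopologicalSpace F] [NoetherianSpace F]
    (k : ℕ) (h : LefX.ConnectedInDim F k) (i j : irreducibleComponents F) :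
    Relation.ReflTransGen (fun i j : irreducibleComponents F =>
      (k : WithBot ℕ∞) ≤ topologicalKrullDim (i.1 ∩ j.1 : Set F)) i j := by
  classical
  by_contra hij
  have hfin : (irreducibleComponents F).Finite := NoetherianSpace.finite_irreducibleComponents
  have : Finite (irreducibleComponents F) := hfin
  let r : irreducibleComponents F → irreducibleComponents F → Prop := fun i j =>
    (k : WithBot ℕ∞) ≤ topologicalKrullDim (i.1 ∩ j.1 : Set F)
  let A : Set (irreducibleComponents F) := {a | Relation.ReflTransGen r i a}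
  have hcl : ∀ a : irreducibleComponents F, IsClosed a.1 := fun a =>
    isClosed_of_mem_irreducibleComponents a.1 a.2
  let S : Set (Set F) := (fun p : irreducibleComponents F × irreducibleComponents F =>
    p.1.1 ∩ p.2.1) '' (A ×ˢ Aᶜ)
  have hSf : S.Finite := (Set.toFinite _).image _
  have hSc : ∀ s ∈ S, IsClosed s := by
    rintro _ ⟨p, -, rfl⟩
    exact (hcl p.1).inter (hcl p.2)
  have hSd : ∀ s ∈ S, topologicalKrullDim s < (k : WithBot ℕ∞) := by
    rintro _ ⟨p, ⟨hp1, hp2⟩, rfl⟩
    by_contra hcon
    exact hp2 (Relation.ReflTransGen.tail hp1 (not_lt.1 hcon))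
  have hZc : IsClosed (⋃₀ S) := by
    rw [Set.sUnion_eq_biUnion]
    exact hSf.isClosed_biUnion hSc
  have hconn := h (⋃₀ S) hZc (dim_lt_of_subset_sUnion S hSf hSc le_rfl k hSd)
  -- the two closed sets
  have hAc : IsClosed (⋃ a ∈ A, a.1) := (Set.toFinite A).isClosed_biUnion fun a _ => hcl a
  have hBc : IsClosed (⋃ b ∈ Aᶜ, b.1) := (Set.toFinite Aᶜ).isClosed_biUnion fun a _ => hcl a
  have hne : ∀ a : irreducibleComponents F, ((⋃₀ S)ᶜ ∩ a.1).Nonempty := by
    intro a
    by_contra hcon
    rw [Set.not_nonempty_iff_eq_empty] at hcon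
    have hsub : a.1 ⊆ ⋃₀ S := by
      intro x hx
      by_contra hxS
      have : x ∈ (⋃₀ S)ᶜ ∩ a.1 := ⟨hxS, hx⟩
      rw [hcon] at this
      exact this
    obtain ⟨s, hs, has⟩ := isIrreducible_iff_sUnion_isClosed.1 a.2.1 hSf.toFinset
      (fun s hs => hSc s (hSf.mem_toFinset.1 hs)) (by rw [hSf.coe_toFinset]; exact hsub)
    obtain ⟨⟨b, c⟩, ⟨hb, hc⟩, rfl⟩ := hSf.mem_toFinset.1 hs
    have h1 : a = b := Subtype.ext (Set.Subset.antisymm (has.trans Set.inter_subset_left)
      (a.2.2 b.2.1 (has.trans Set.inter_subset_left)))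
    have h2 : a = c := Subtype.ext (Set.Subset.antisymm (has.trans Set.inter_subset_right)
      (a.2.2 c.2.1 (has.trans Set.inter_subset_right)))
    exact hc (h2 ▸ h1 ▸ hb)
  have key := isPreconnected_closed_iff.1 hconn.isPreconnected _ _ hAc hBc (by
      intro x _
      have hx := irreducibleComponent_mem_irreducibleComponents x
      by_cases hxA : (⟨_, hx⟩ : irreducibleComponents F) ∈ A
      · exact Or.inl (Set.mem_iUnion₂.2 ⟨_, hxA, mem_irreducibleComponent⟩)
      · exact Or.inr (Set.mem_iUnion₂.2 ⟨_, hxA, mem_irreducibleComponent⟩))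
    ((hne i).mono (Set.inter_subset_inter_right _ fun x hx =>
      Set.mem_iUnion₂.2 ⟨i, Relation.ReflTransGen.refl, hx⟩))
    ((hne j).mono (Set.inter_subset_inter_right _ fun x hx =>
      Set.mem_iUnion₂.2 ⟨j, hij, hx⟩))
  obtain ⟨x, hx, hxA, hxB⟩ := key
  obtain ⟨a, ha, hxa⟩ := Set.mem_iUnion₂.1 hxA
  obtain ⟨b, hb, hxb⟩ := Set.mem_iUnion₂.1 hxB
  exact hx ⟨_, ⟨(a, b), ⟨ha, hb⟩, rfl⟩, ⟨hxa, hxb⟩⟩

end Groth.Agent.Sga2lef.H85.ConnDimChain
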