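import Groth.Prelude.Def_LefX
import Mathlib.Topology.NoetherianSpace
import Mathlib.Topology.Sober

/-!
# Connectedness in dimension `≥ k`: purely topological criteria

* `connectedInDim_of_local`: a connected Noetherian sober space all of whose irreducible components
  have dimension `≥ k` is connected in dimension `≥ k` as soon as the punctured sets of
  generizations of the points `w` with `dim (closure {w}) < k` are connected.
* `connectedInDim_image`: transfer along surjections which do not raise... the dimension of preimages.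
-/

set_option autoImplicit false
universe u v

open TopologicalSpace Topology

namespace Groth.Agent.Sga2lef.H85.ConnDimTop

/-- In a noetherian quasi-sober space, every point of the closure of an open set is a
specialization of a point of the open set. -/
theorem exists_specializes_of_mem_closure {X : Type*} [TopologicalSpace X] [NoetherianSpace X]
    [QuasiSober X] (O : Set X) (hO : IsOpen O) (s : X) (hs : s ∈ closure O) :
    ∃ η ∈ O, η ⤳ s := by
  obtain ⟨A, hAf, hAc, hAi, hA⟩ :=
    NoetherianSpace.exists_finite_set_isClosed_irreducible (isClosed_closure (s := O))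
  let B : Set (Set X) := {t ∈ A | (t ∩ O).Nonempty}
  have hBf : B.Finite := hAf.subset (Set.sep_subset _ _)
  have hBc : IsClosed (⋃₀ B) := by
    rw [Set.sUnion_eq_biUnion]
    exact hBf.isClosed_biUnion (fun t ht => hAc t ht.1)
  have hOB : O ⊆ ⋃₀ B := by
    intro x hx
    have : x ∈ ⋃₀ A := hA ▸ subset_closure hx
    obtain ⟨t, htA, hxt⟩ := this
    exact ⟨t, ⟨htA, ⟨x, hxt, hx⟩⟩, hxt⟩
  have hsB : s ∈ ⋃₀ B := hBc.closure_subset_iff.2 hOB hs
  obtain ⟨t, ⟨htA, htO⟩, hst⟩ := hsB
  obtain ⟨η, hη⟩ := QuasiSober.sober (hAi t htA) (hAc t htA)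
  refine ⟨η, ?_, ?_⟩
  · obtain ⟨y, hyt, hyO⟩ := htO
    have : η ⤳ y := hη.specializes hyt
    exact this.mem_open hO hyO
  · exact hη.specializes hst

/-- A nonempty closed subset of a quasi-sober space contains a point all of whose generizations in
the closed subset are equal to it. -/
theorem exists_maximal_of_isClosed {X : Type*} [TopologicalSpace X] [T0Space X] [QuasiSober X]
    {C : Set X} (hC : IsClosed C) (hne : C.Nonempty) :
    ∃ w ∈ C, ∀ x ∈ C, x ⤳ w → x = w := by
  obtain ⟨x₀, hx₀⟩ := hne
  have hemb : IsClosedEmbedding (Subtype.val : C → X) := hC.isClosedEmbedding_subtypeVal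
  have : QuasiSober C := hemb.quasiSober
  let T : Set C := irreducibleComponent (⟨x₀, hx₀⟩ : C)
  have hT : IsIrreducible T := isIrreducible_irreducibleComponent
  have hTc : IsClosed T := isClosed_irreducibleComponent
  have hgen := hT.isGenericPoint_genericPoint hTc
  refine ⟨hT.genericPoint.1, hT.genericPoint.2, fun x hx hxw => ?_⟩
  have h1 : (⟨x, hx⟩ : C) ⤳ hT.genericPoint := hemb.isInducing.specializes_iff.1 hxw
  have h2 : closure ({(⟨x, hx⟩ : C)} : Set C) = T := by
    refine (eq_irreducibleComponent (isPreirreducible_singleton.closure) ?_)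
    change T ⊆ _
    rw [← hgen.def]
    exact closure_minimal (Set.singleton_subset_iff.2 h1.mem_closure) isClosed_closure
  have h3 : (hT.genericPoint : C) ⤳ ⟨x, hx⟩ := by
    apply hgen.specializes
    rw [← h2]
    exact subset_closure rfl
  exact congrArg Subtype.val (h1.antisymm h3).eq

/-- A closed subset of smaller dimension than all the irreducible components has dense
complement. -/
theorem dense_compl_of_dim_lt {F : Type u} [TopologicalSpace F] {Z : Set F}
    (h : ∀ T ∈ irreducibleComponents F, topologicalKrullDim Z < topologicalKrullDim T) 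
    (hZ : IsClosed Z) : Dense Zᶜ := by
  intro x
  by_contra hx
  -- the open set `interior Z` meets a component in a dense open
  have hx' : x ∈ interior Z := by
    rw [closure_compl] at hx
    exact not_not.1 hx
  have hT := irreducibleComponent_mem_irreducibleComponents x
  have hsub : irreducibleComponent x ⊆ Z := by
    have h1 : irreducibleComponent x ⊆ closure (irreducibleComponent x ∩ interior Z) := by
      have := (isIrreducible_irreducibleComponent (x := x)).isPreirreducible
      exact subset_closure_inter_of_isPreirreducible_of_isOpen this isOpen_interior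
        ⟨x, mem_irreducibleComponent, hx'⟩
    exact h1.trans (closure_minimal (Set.inter_subset_right.trans interior_subset) hZ)
  have h2 : topologicalKrullDim (irreducibleComponent x) ≤ topologicalKrullDim Z :=
    (IsInducing.topologicalKrullDim_le (f := Set.inclusion hsub)
      (IsEmbedding.inclusion hsub).isInducing)
  exact absurd (h _ hT) (not_lt.2 h2)

/-- A connected Noetherian sober space all of whose irreducible components have dimension `≥ k`
is connected in dimension `≥ k` as soon as the punctured sets of generizations of the points `w`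
with `dim (closure {w}) < k` are preconnected. -/
theorem connectedInDim_of_local {F : Type u} [TopologicalSpace F] [NoetherianSpace F]
    [QuasiSober F] [T0Space F] [ConnectedSpace F] (k : ℕ)
    (hcomp : ∀ T ∈ irreducibleComponents F, (k : WithBot ℕ∞) ≤ topologicalKrullDim T)
    (hloc : ∀ w : F, topologicalKrullDim (closure {w} : Set F) < (k : WithBot ℕ∞) →
      IsPreconnected ({x : F | x ⤳ w} \ {w})) : LefX.ConnectedInDim F k := by
  intro Z hZ hdim
  have hd : Dense Zᶜ := dense_compl_of_dim_lt (fun T hT => hdim.trans_le (hcomp T hT)) hZ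
  refine ⟨hd.nonempty, ?_⟩
  intro u v hu hv huv hnu hnv
  by_contra hcon
  rw [Set.not_nonempty_iff_eq_empty] at hcon
  -- the closures cover and meet
  have hcov : closure (Zᶜ ∩ u) ∪ closure (Zᶜ ∩ v) = Set.univ := by
    rw [← closure_union, ← Set.inter_union_distrib_left, Set.inter_eq_self_of_subset_left huv]
    exact hd.closure_eq
  have hmeet : (closure (Zᶜ ∩ u) ∩ closure (Zᶜ ∩ v)).Nonempty := by
    have := isPreconnected_closed_iff.1 (isPreconnected_univ (α := F)) _ _
      (isClosed_closure (s := Zᶜ ∩ u)) (isClosed_closure (s := Zᶜ ∩ v)) hcov.ge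
      (by rw [Set.univ_inter]; exact hnu.closure) (by rw [Set.univ_inter]; exact hnv.closure)
    rwa [Set.univ_inter] at this
  obtain ⟨w, ⟨hwu, hwv⟩, hw⟩ := exists_maximal_of_isClosed
    (isClosed_closure.inter isClosed_closure) hmeet
  have hU : IsOpen (Zᶜ ∩ u) := hZ.isOpen_compl.inter hu
  have hV : IsOpen (Zᶜ ∩ v) := hZ.isOpen_compl.inter hv
  have hdis : Disjoint (Zᶜ ∩ u) (Zᶜ ∩ v) := by
    rw [Set.disjoint_iff_inter_eq_empty, ← Set.inter_inter_distrib_left]
    exact hcon
  have hwZ : w ∈ Z := by
    by_contra hwZ
    rcases huv hwZ with h | h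
    · exact (hdis.closure_right hU).le_bot ⟨⟨hwZ, h⟩, hwv⟩
    · exact (hdis.closure_left hV).le_bot ⟨hwu, ⟨hwZ, h⟩⟩
  have hdimw : topologicalKrullDim (closure {w} : Set F) < (k : WithBot ℕ∞) := by
    refine lt_of_le_of_lt ?_ hdim
    have hsub : (closure {w} : Set F) ⊆ Z := closure_minimal (Set.singleton_subset_iff.2 hwZ) hZ
    exact (IsInducing.topologicalKrullDim_le (f := Set.inclusion hsub)
      (IsEmbedding.inclusion hsub).isInducing)
  obtain ⟨a, haU, haw⟩ := exists_specializes_of_mem_closure _ hU w hwu
  obtain ⟨b, hbV, hbw⟩ := exists_specializes_of_mem_closure _ hV w hwv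
  have key := isPreconnected_closed_iff.1 (hloc w hdimw) _ _
    (isClosed_closure (s := Zᶜ ∩ u)) (isClosed_closure (s := Zᶜ ∩ v))
    (by rw [hcov]; exact Set.subset_univ _)
    ⟨a, ⟨haw, fun h => haU.1 (by rw [Set.mem_singleton_iff.1 h]; exact hwZ)⟩, subset_closure haU⟩
    ⟨b, ⟨hbw, fun h => hbV.1 (by rw [Set.mem_singleton_iff.1 h]; exact hwZ)⟩, subset_closure hbV⟩
  obtain ⟨c, ⟨hcw, hcne⟩, hc⟩ := key
  exact hcne (hw c hc hcw)

end Groth.Agent.Sga2lef.H85.ConnDimTop
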