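import Groth.Agent.Sga2lef.H85.ConnDimChain
import Groth.Agent.EtpbcA.CharPDim
import Mathlib.AlgebraicGeometry.Fiber

/-!
# Maps between fibres and transfer of connectedness in dimension
-/

set_option autoImplicit false
universe u

open CategoryTheory AlgebraicGeometry TopologicalSpace Topology

namespace Groth.Agent.Sga2lef.H85.FibMap

/-- Transfer along a continuous surjection of sober spaces with discrete fibres. -/
theorem of_surjective_discrete {F' F : Type u} [TopologicalSpace F'] [TopologicalSpace F]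
    [QuasiSober F'] [T0Space F'] [QuasiSober F] [T0Space F] (g : F' → F) (hg : Continuous g)
    (hs : Function.Surjective g) (hd : ∀ x x' : F', x ⤳ x' → g x = g x' → x = x') (k : ℕ)
    (h : LefX.ConnectedInDim F' k) : LefX.ConnectedInDim F k := by
  refine ConnDimChain.of_surjective g hg hs k (fun Z hZ hdim => lt_of_le_of_lt ?_ hdim) h
  have h1 : QuasiSober (g ⁻¹' Z) := (hZ.preimage hg).isClosedEmbedding_subtypeVal.quasiSober
  have h2 : QuasiSober Z := hZ.isClosedEmbedding_subtypeVal.quasiSober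
  refine EtpbcA.CharPDim.topologicalKrullDim_le_of_discrete
    (Set.MapsTo.restrict g (g ⁻¹' Z) Z fun _ h => h) (hg.restrict _) ?_
  intro x x' hxx' he
  apply Subtype.ext
  exact hd _ _ (hxx'.map continuous_subtype_val) (congrArg Subtype.val he)

variable {X' X Y' Y : Scheme.{u}}

theorem fiberι_map (f : X ⟶ Y) (y : Y) (w : f.fiber y) : f (f.fiberι y w) = y := by
  have : f.fiberι y w ∈ Set.range (f.fiberι y) := ⟨w, rfl⟩
  rw [Scheme.Hom.range_fiberι] at this
  exact this

/-- The map induced on fibres by a commutative square. -/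
noncomputable def fibMap {g : X' ⟶ X} {f' : X' ⟶ Y'} {f : X ⟶ Y} {b : Y' ⟶ Y}
    (h : g ≫ f = f' ≫ b) {y' : Y'} {y : Y} (hy : b y' = y) : f'.fiber y' → f.fiber y := fun z =>
  (f.fiberHomeo y).symm ⟨g (f'.fiberι y' z), by
    change f (g (f'.fiberι y' z)) = y
    rw [← Scheme.Hom.comp_apply, h, Scheme.Hom.comp_apply, fiberι_map, hy]⟩

variable {g : X' ⟶ X} {f' : X' ⟶ Y'} {f : X ⟶ Y} {b : Y' ⟶ Y} (h : g ≫ f = f' ≫ b)
  {y' : Y'} {y : Y} (hy : b y' = y)

theorem fiberι_fibMap (z : f'.fiber y') : f.fiberι y (fibMap h hy z) = g (f'.fiberι y' z) :=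
  f.fiberι_fiberHomeo_symm y _

theorem continuous_fibMap : Continuous (fibMap h hy) := by
  refine (f.fiberHomeo y).symm.continuous.comp ?_
  exact Continuous.subtype_mk (g.continuous.comp (f'.fiberι y').continuous) _

theorem exists_fiberι_eq (f : X ⟶ Y) (y : Y) (x : X) (hx : f x = y) :
    ∃ w : f.fiber y, f.fiberι y w = x := by
  subst hx
  exact ⟨f.asFiber x, f.fiberι_asFiber x⟩

theorem surjective_fibMap (hs : ∀ x : X, f x = y → ∃ x' : X', g x' = x ∧ f' x' = y') :
    Function.Surjective (fibMap h hy) := by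
  intro z
  obtain ⟨x', hx', hfx'⟩ := hs (f.fiberι y z) (fiberι_map f y z)
  obtain ⟨z', rfl⟩ := exists_fiberι_eq f' y' x' hfx'
  refine ⟨z', (f.fiberι y).isEmbedding.injective ?_⟩
  rw [fiberι_fibMap, hx']

theorem discrete_fibMap (hd : ∀ x x' : X', x ⤳ x' → g x = g x' → x = x') (z z' : f'.fiber y')
    (hz : z ⤳ z') (he : fibMap h hy z = fibMap h hy z') : z = z' := by
  apply (f'.fiberι y').isEmbedding.injective
  refine hd _ _ (hz.map (f'.fiberι y').continuous) ?_
  rw [← fiberι_fibMap h hy, ← fiberι_fibMap h hy, he]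

/-- Transfer of connectedness in dimension to the target of a map of fibres, surjective and
with discrete fibres. -/
theorem connectedInDim_fiber_of_square {g : X' ⟶ X} {f' : X' ⟶ Y'} {f : X ⟶ Y} {b : Y' ⟶ Y}
    (h : g ≫ f = f' ≫ b) {y' : Y'} {y : Y} (hy : b y' = y)
    (hs : ∀ x : X, f x = y → ∃ x' : X', g x' = x ∧ f' x' = y')
    (hd : ∀ x x' : X', x ⤳ x' → g x = g x' → x = x') (k : ℕ)
    (hc : LefX.ConnectedInDim ↥(f'.fiber y') k) : LefX.ConnectedInDim ↥(f.fiber y) k :=
  of_surjective_discrete (fibMap h hy) (continuous_fibMap h hy) (surjective_fibMap h hy hs)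
    (discrete_fibMap h hy hd) k hc

/-- Transfer of connectedness in dimension of fibres along an integral surjective morphism. -/
theorem connectedInDim_fiber_of_isIntegralHom (ν : X' ⟶ X) [IsIntegralHom ν] [Surjective ν]
    (f : X ⟶ Y) (y : Y) (k : ℕ) (hc : LefX.ConnectedInDim ↥((ν ≫ f).fiber y) k) :
    LefX.ConnectedInDim ↥(f.fiber y) k := by
  refine connectedInDim_fiber_of_square (g := ν) (f' := ν ≫ f) (f := f) (b := 𝟙 Y)
    (y' := y) (y := y) (by rw [Category.comp_id]) rfl (fun x hx => ?_)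
    (Sga3C.DimTop.eq_of_specializes_of_isIntegralHom ν) k hc
  obtain ⟨x', rfl⟩ := ν.surjective x
  exact ⟨x', rfl, by rw [Scheme.Hom.comp_apply, hx]⟩

end Groth.Agent.Sga2lef.H85.FibMap
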