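import Mathlib.FieldTheory.PurelyInseparable.Basic
import Mathlib.FieldTheory.PurelyInseparable.PerfectClosure
import Mathlib.RingTheory.IntegralClosure.IntegrallyClosed
import Mathlib.RingTheory.Spectrum.Prime.Topology

/-!
# Integral extensions of a normal domain inside a field in which its fraction field is separably closed
-/

set_option autoImplicit false
universe u

namespace Groth.Agent.Sga2lef.H85.SepInj

/-- If `K` is separably closed in `L` then the algebraic elements of `L` are purely inseparable
over `K`. -/
theorem exists_pow_mem {K L : Type*} [Field K] [Field L] [Algebra K L]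
    (hsep : ∀ b : L, IsSeparable K b → b ∈ (algebraMap K L).range) (b : L) (hb : IsAlgebraic K b) :
    ∃ n : ℕ, b ^ (ringExpChar K) ^ n ∈ (algebraMap K L).range := by
  let E : IntermediateField K L := algebraicClosure K L
  have hbE : b ∈ E := mem_algebraicClosure_iff.2 hb
  have hE : IsPurelyInseparable K E := by
    rw [isPurelyInseparable_iff]
    intro x
    refine ⟨?_, fun hx => ?_⟩
    · exact (Algebra.IsIntegral.isIntegral (R := K) x)
    · have h1 : IsSeparable K (x : L) := by
        have : IsSeparable K ((algebraMap E L) x) := by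
          rw [IsSeparable, minpoly.algebraMap_eq (algebraMap E L).injective]
          exact hx
        exact this
      obtain ⟨y, hy⟩ := hsep _ h1
      exact ⟨y, Subtype.ext hy⟩
  obtain ⟨n, y, hy⟩ := IsPurelyInseparable.pow_mem K (ringExpChar K) (⟨b, hbE⟩ : E)
  refine ⟨n, y, ?_⟩
  have := congrArg (fun z : E => (z : L)) hy
  exact this

/-- Let `C` be an integrally closed domain with fraction field `K`, `D` an integral `C`-algebra
embedded in a field `L ⊇ K` in which `K` is separably closed. Then some `q^n`-th power of every
element of `D` lies in `C`. -/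
theorem exists_pow_mem_range {C D K L : Type*} [CommRing C] [CommRing D] [Field K] [Field L]
    [Algebra C K] [IsDomain C] [IsFractionRing C K] [IsIntegrallyClosed C] [Algebra C D]
    [Algebra.IsIntegral C D] [Algebra K L] (ψ : D →+* L) (hψ : Function.Injective ψ)
    (hcomp : ∀ c : C, ψ (algebraMap C D c) = algebraMap K L (algebraMap C K c))
    (hsep : ∀ b : L, IsSeparable K b → b ∈ (algebraMap K L).range) (b : D) :
    ∃ (n : ℕ) (c : C), b ^ (ringExpChar K) ^ n = algebraMap C D c := by
  let _ : Algebra C L := ((algebraMap K L).comp (algebraMap C K)).toAlgebra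
  have : IsScalarTower C K L := IsScalarTower.of_algebraMap_eq fun _ => rfl
  have hint : IsIntegral C (ψ b) := by
    obtain ⟨p, hp, hp'⟩ := Algebra.IsIntegral.isIntegral (R := C) b
    refine ⟨p, hp, ?_⟩
    have h1 : algebraMap C L = ψ.comp (algebraMap C D) := by
      ext c
      exact (hcomp c).symm
    rw [h1, ← Polynomial.hom_eval₂, hp', map_zero]
  have hK : IsIntegral K (ψ b) := hint.tower_top
  obtain ⟨n, x, hx⟩ := exists_pow_mem hsep (ψ b) hK.isAlgebraic
  have hxint : IsIntegral C x := by
    have h2 : IsIntegral C (algebraMap K L x) := by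
      rw [hx]
      exact hint.pow _
    exact (isIntegral_algebraMap_iff (algebraMap K L).injective).1 h2
  obtain ⟨c, rfl⟩ := IsIntegrallyClosed.isIntegral_iff.1 hxint
  refine ⟨n, c, hψ ?_⟩
  rw [map_pow, ← hx, hcomp]

theorem comap_injective {C D K L : Type*} [CommRing C] [CommRing D] [Field K] [Field L]
    [Algebra C K] [IsDomain C] [IsFractionRing C K] [IsIntegrallyClosed C] [Algebra C D]
    [Algebra.IsIntegral C D] [Algebra K L] (ψ : D →+* L) (hψ : Function.Injective ψ)
    (hcomp : ∀ c : C, ψ (algebraMap C D c) = algebraMap K L (algebraMap C K c))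
    (hsep : ∀ b : L, IsSeparable K b → b ∈ (algebraMap K L).range) :
    Function.Injective (PrimeSpectrum.comap (algebraMap C D)) := by
  have hpos : ∀ n : ℕ, (ringExpChar K) ^ n ≠ 0 := fun n => by
    have : 0 < ringExpChar K := by
      have := ringExpChar.expChar K
      exact expChar_pos K (ringExpChar K)
    positivity
  intro P Q h
  ext b
  obtain ⟨n, c, hc⟩ := exists_pow_mem_range ψ hψ hcomp hsep b
  have h1 : ∀ R : PrimeSpectrum D, b ∈ R.asIdeal ↔ c ∈ (PrimeSpectrum.comap (algebraMap C D) R).asIdeal := by
    intro R
    rw [PrimeSpectrum.comap_asIdeal, Ideal.mem_comap, ← hc, R.2.pow_mem_iff_mem _ (Nat.pos_of_ne_zero (hpos n))]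
  rw [h1, h1, h]

end Groth.Agent.Sga2lef.H85.SepInj
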