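import Groth.Agent.Sga2lef.H85.ConnDimTop
import Groth.Agent.Sga2lef.H85.UnibLocal
import Groth.Agent.Ega4fib.H129.DimFib
import Groth.Agent.S3388
import Groth.Agent.S1387
import Mathlib.AlgebraicGeometry.Noetherian

/-!
# Connectedness in dimension of the fibres of a morphism with analytically irreducible source

* `dim_components_fiber`: lower bound for the dimension of the components of a fibre;
* `isPreconnected_generizations_fiber`: local connectedness of the punctured fibre;
* `connectedInDim_fiber`: main statement.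
-/

set_option autoImplicit false
universe u

open CategoryTheory AlgebraicGeometry TopologicalSpace Topology

namespace Groth.Agent.Sga2lef.H85.UnibTop

open Groth.Agent.CycB.RelDim Groth.Agent.CycB.LocQuot Groth.Agent Groth.Agent.Ega4fib

variable {X Y : Scheme.{u}}

/-- The irreducible components of a fibre have dimension `≥ n` if the fibre has dimension `≥ n`
at all of its points. -/
theorem dim_components_fiber (f : X ⟶ Y) [LocallyOfFiniteType f] (y : Y) (n : ℕ)
    (h : ∀ x : X, f x = y → (n : WithBot ℕ∞) ≤ FlatMor.fibreDimAt f x) :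
    ∀ T ∈ irreducibleComponents ↥(f.fiber y), (n : WithBot ℕ∞) ≤ topologicalKrullDim T := by
  intro T hT
  have hTi : IsIrreducible T := hT.1
  have hTc : IsClosed T := isClosed_of_mem_irreducibleComponents T hT
  have hgen := hTi.isGenericPoint_genericPoint hTc
  set z : f.fiber y := hTi.genericPoint with hz
  have hfz : f (f.fiberι y z) = y := S1387.fiberι_map f y z
  have hmax : ∀ x' : X, f x' = f (f.fiberι y z) → x' ⤳ f.fiberι y z → x' = f.fiberι y z := by
    intro x' hx' hsp
    obtain ⟨w, rfl⟩ := S1387.exists_fiber f y x' (hx'.trans hfz)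
    have hwz : w ⤳ z := (f.fiberι y).isEmbedding.isInducing.specializes_iff.1 hsp
    have h1 : T ⊆ closure {w} := by
      rw [← hgen.def]
      exact closure_minimal (Set.singleton_subset_iff.2 hwz.mem_closure) isClosed_closure
    have h2 : closure {w} ⊆ T := hT.2 isIrreducible_singleton.closure h1
    have h3 : z ⤳ w := hgen.specializes (h2 (subset_closure rfl))
    rw [(hwz.antisymm h3).eq]
  obtain ⟨m, hm, hm'⟩ := exists_dim_closure_fiber f y z
  have h4 := H129.DimFib.fibreDimAt_eq_of_fibGeneric f hmax m hm
  have h5 := h _ hfz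
  rw [h4, ← hm', hgen.def] at h5
  exact h5

/-- In the set of points of `X` over `y`, the punctured set of generizations of a point `x` is
connected if `O_{X,x}` is analytically irreducible of dimension `≥ dim O_{Y,y} + 2`. -/
theorem isConnected_generizations (f : X ⟶ Y) [IsLocallyNoetherian X] [IsLocallyNoetherian Y]
    (x : X) (hx : IsDomain (EGA4.Cpl (X.presheaf.stalk x)))
    (hdim : ringKrullDim (Y.presheaf.stalk (f x)) + 2 ≤ ringKrullDim (X.presheaf.stalk x)) :
    IsConnected ({z : X | z ⤳ x ∧ f z = f x} \ {x}) := by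
  algebraize [(f.stalkMap x).hom]
  have : IsLocalHom (algebraMap (Y.presheaf.stalk (f x)) (X.presheaf.stalk x)) :=
    inferInstanceAs <| IsLocalHom (f.stalkMap x).hom
  have key := UnibLocal.isConnected_fibre_diff (B := Y.presheaf.stalk (f x))
    (C := X.presheaf.stalk x) hdim
  have key2 := key.image (X.fromSpecStalk x) (X.fromSpecStalk x).continuous.continuousOn
  have hnat : ∀ p : PrimeSpectrum (X.presheaf.stalk x), f (X.fromSpecStalk x p) =
      Y.fromSpecStalk (f x) (PrimeSpectrum.comap (f.stalkMap x).hom p) := by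
    intro p
    have h := Scheme.SpecMap_stalkMap_fromSpecStalk f (x := x)
    exact (congrArg (fun g : Spec (X.presheaf.stalk x) ⟶ Y => g p) h).symm
  have hcl : Y.fromSpecStalk (f x) (IsLocalRing.closedPoint (Y.presheaf.stalk (f x))) = f x :=
    Scheme.fromSpecStalk_closedPoint
  have hcl' : X.fromSpecStalk x (IsLocalRing.closedPoint (X.presheaf.stalk x)) = x :=
    Scheme.fromSpecStalk_closedPoint
  convert key2 using 1
  ext z
  constructor
  · rintro ⟨⟨hz1, hz2⟩, hz3⟩
    refine ⟨primeOf hz1, ⟨?_, ?_⟩, fromSpecStalk_primeOf hz1⟩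
    · apply fromSpecStalk_injective (f x)
      change Y.fromSpecStalk (f x) (PrimeSpectrum.comap (f.stalkMap x).hom (primeOf hz1)) = _
      rw [← hnat, fromSpecStalk_primeOf, hz2]
      exact hcl.symm
    · intro h
      apply hz3
      rw [Set.mem_singleton_iff] at h ⊢
      rw [← fromSpecStalk_primeOf hz1, h]
      exact hcl'
  · rintro ⟨p, ⟨hp1, hp2⟩, rfl⟩
    refine ⟨⟨fromSpecStalk_specializes p, ?_⟩, ?_⟩
    · exact (hnat p).trans ((congrArg (Y.fromSpecStalk (f x)) hp1).trans hcl)
    · intro h
      apply hp2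
      rw [Set.mem_singleton_iff] at h ⊢
      apply fromSpecStalk_injective x
      rw [h]
      exact hcl'.symm

/-- For a dominant morphism of integral schemes and a point `x` with
`trdeg κ(x)/κ(f x) + 2 ≤ dim of the generic fibre`, one has `dim O_{X,x} ≥ dim O_{Y,f x} + 2`. -/
theorem dim_add_two_le [IsIntegral X] [IsIntegral Y] [IsLocallyNoetherian Y] (f : X ⟶ Y)
    [LocallyOfFiniteType f] [IsDominant f] (x : X)
    (hcat : CAlg.IsUniversallyCatenary (Y.presheaf.stalk (f x))) (t : ℕ) (ht : rtd f x = t)
    (h : ((t + 2 : ℕ) : WithBot ℕ∞) ≤ topologicalKrullDim ↥(f.fiber (genericPoint Y))) :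
    ringKrullDim (Y.presheaf.stalk (f x)) + 2 ≤ ringKrullDim (X.presheaf.stalk x) := by
  obtain ⟨r, hr, hr'⟩ := S1387.exists_rtd_generic f
  obtain ⟨m, n, hm, hn, e⟩ := H129.DimFib.dimension_formula_nat f (genericPoint_specializes x) hcat
    t r ht hr
  have h1 : (m : WithBot ℕ∞) ≤ ringKrullDim (X.presheaf.stalk x) :=
    hm.le.trans (H129.DimFib.ringKrullDim_locQuot_le _)
  have hker : RingHom.ker (Cyc.specMap (f x) (f (genericPoint X))
      ((genericPoint_specializes x).map f.continuous)) = ⊥ := by
    obtain ⟨z, hz, hz'⟩ := exists_eq_ker (x := f x) (⊥ : Ideal (Y.presheaf.stalk (f x)))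
    rw [hz', ker_inj]
    rw [S3388.map_genericPoint]
    refine ((genericPoint_specializes z).antisymm ?_).eq
    rw [← ker_le_iff hz (genericPoint_specializes (f x)), ← hz']
    exact bot_le
  have h2 : ringKrullDim (Y.presheaf.stalk (f x)) = (n : WithBot ℕ∞) := by
    rw [hn]
    unfold Cyc.LocQuot
    rw [hker]
    exact ringKrullDim_eq_of_ringEquiv (RingEquiv.quotientBot _).symm
  have h3 : t + 2 ≤ r := by
    exact_mod_cast h.trans hr'
  rw [h2]
  refine le_trans ?_ h1
  have : n + 2 ≤ m := by omega
  exact_mod_cast this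

theorem fiber_noetherianSpace (f : X ⟶ Y) [LocallyOfFiniteType f] [QuasiCompact f] (y : Y) :
    NoetherianSpace ↥(f.fiber y) := by
  have : LocallyOfFiniteType (f.fiberToSpecResidueField y) :=
    inferInstanceAs (LocallyOfFiniteType (Limits.pullback.snd f (Y.fromSpecResidueField y)))
  have : IsLocallyNoetherian (f.fiber y) :=
    LocallyOfFiniteType.isLocallyNoetherian (f.fiberToSpecResidueField y)
  have : QuasiCompact (f.fiberToSpecResidueField y) :=
    inferInstanceAs (QuasiCompact (Limits.pullback.snd f (Y.fromSpecResidueField y)))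
  have : CompactSpace ↥(f.fiber y) :=
    QuasiCompact.compactSpace_of_compactSpace (f.fiberToSpecResidueField y)
  have : IsNoetherian (f.fiber y) := {}
  infer_instance

/-- **Main statement** (normal case). Let `f : X ⟶ Y` be a dominant morphism of finite type of
integral schemes, `Y` locally Noetherian, `y : Y` with `O_{Y,y}` universally catenary, such that
the local rings of `X` at the points over `y` are analytically irreducible. If the fibre `X_y` is
connected and the generic fibre has dimension `≥ k + 1`, then `X_y` is connected in dimension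
`≥ k` and its components have dimension `≥ k + 1`. -/
theorem connectedInDim_fiber [IsIntegral X] [IsIntegral Y] [IsLocallyNoetherian Y] (f : X ⟶ Y)
    [LocallyOfFiniteType f] [QuasiCompact f] [IsDominant f] (y : Y)
    (hcat : CAlg.IsUniversallyCatenary (Y.presheaf.stalk y))
    (hX : ∀ x : X, f x = y → IsDomain (EGA4.Cpl (X.presheaf.stalk x)))
    (hconn : ConnectedSpace ↥(f.fiber y)) (k : ℕ)
    (hk : ((k + 1 : ℕ) : WithBot ℕ∞) ≤ topologicalKrullDim ↥(f.fiber (genericPoint Y))) :
    (∀ T ∈ irreducibleComponents ↥(f.fiber y), ((k + 1 : ℕ) : WithBot ℕ∞) ≤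
      topologicalKrullDim T) ∧ LefX.ConnectedInDim ↥(f.fiber y) k := by
  have hXN : IsLocallyNoetherian X := LocallyOfFiniteType.isLocallyNoetherian f
  have hN : NoetherianSpace ↥(f.fiber y) := fiber_noetherianSpace f y
  have h1 := dim_components_fiber f y (k + 1) (fun x _ => hk.trans (S3388.result f x))
  refine ⟨h1, ConnDimTop.connectedInDim_of_local k (fun T hT => le_trans ?_ (h1 T hT)) ?_⟩
  · exact_mod_cast Nat.le_succ k
  intro w hw
  have hemb := (f.fiberι y).isEmbedding
  rw [← hemb.isInducing.isPreconnected_image]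
  obtain ⟨t, ht, ht'⟩ := exists_dim_closure_fiber f y w
  have htk : t < k := by
    rw [ht'] at hw
    exact_mod_cast hw
  have hfw : f (f.fiberι y w) = y := S1387.fiberι_map f y w
  have key := isConnected_generizations f (f.fiberι y w) (hX _ hfw)
    (dim_add_two_le f _ (by rw [hfw]; exact hcat) t ht
      (le_trans (by exact_mod_cast (show t + 2 ≤ k + 1 by omega)) hk))
  convert key.isPreconnected using 1
  ext z
  constructor
  · rintro ⟨v, ⟨hv1, hv2⟩, rfl⟩
    refine ⟨⟨hv1.map hemb.continuous, ?_⟩, ?_⟩
    · rw [S1387.fiberι_map f y v, hfw]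
    · intro h
      exact hv2 (hemb.injective h)
  · rintro ⟨⟨hz1, hz2⟩, hz3⟩
    obtain ⟨v, rfl⟩ := S1387.exists_fiber f y z (hz2.trans hfw)
    refine ⟨v, ⟨hemb.isInducing.specializes_iff.1 hz1, ?_⟩, rfl⟩
    rintro rfl
    exact hz3 rfl

end Groth.Agent.Sga2lef.H85.UnibTop
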